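import Cfsg.Agent.OddHalf.D4.Spor.Fi22
import Cfsg.Agent.PreUniqCo.FiTwentyTwo
import Cfsg.Agent.H619.SB.Tools
import Cfsg.Agent.H714.Fi22.Deg

/-!
# S4884: the pair `(Fi22, 3)` (helper210)

* `cent` : the centralizer of a Sylow 3-subgroup of `Fi22` is a 3-group;
* `rowQ_three` : the rational character of degree 1001 (helper714) is in the principal blocks for 2 and 3.
-/

set_option autoImplicit false

open Cfsg

namespace Cfsg.Agent.H210.SB.Fi22

open Subgroup Cfsg.Agent.R01.FiFusion Cfsg.Agent.R01.FiFacts Cfsg.Agent.StdFi22.TLev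
open Cfsg.Agent.OddHalf.D8.Fi22
open Cfsg.Agent.OddHalf.D4.Spor.Fi22 (inv_cases comm_tri comm_w exists_ncomm)
open Cfsg.Agent.StdFi22.MainFi22 (bas)
open Cfsg.Agent.R08.AutT (T)
open Cfsg.Agent.H635.SB Cfsg.Agent.H619.SB

theorem card_eq : Nat.card Spor.Fi22 = 64561751654400 := Cfsg.Agent.R01.Fi22Facts.card

/-- `|G : C(a)| = 3510` -/
theorem card_cent {a : Spor.Fi22} (ha : a ∈ T) : Nat.card (centralizer ({a} : Set Spor.Fi22)) = 18393661440 := by
  have := Cfsg.Agent.R01.Fi22Facts.finite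
  have h1 : (centralizer ({a} : Set Spor.Fi22)).index = 3510 := by
    rw [Characters.CentralCharacter.index_centralizer_eq_card, ← Cfsg.Agent.R01.Fi22Facts.ncard_T,
      ← Nat.card_coe_set_eq]
    refine Nat.card_congr (Equiv.subtypeEquivRight fun y => ⟨fun h => ?_, fun h => ?_⟩)
    · obtain ⟨c, rfl⟩ := isConj_iff.1 h
      exact bas.tf.conj c a ha
    · exact isConj_iff.2 (bas.tf.trans a ha y h)
  have h2 := (centralizer ({a} : Set Spor.Fi22)).card_mul_index
  rw [h1, card_eq] at h2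
  omega

/-- a subgroup of order `3 ^ 9` has no orbit of length at most 6 on the transpositions -/
theorem no_orb {P : Subgroup Spor.Fi22} (hP : Nat.card P = 3 ^ 9) {a : Spor.Fi22} (ha : a ∈ T) (S : Finset Spor.Fi22)
    (hS : S.card ≤ 6) (h : ∀ p ∈ P, p * a * p⁻¹ ∈ S) : False := by
  classical
  have := Cfsg.Agent.R01.Fi22Facts.finite
  let _ : MulAction P Spor.Fi22 := MulAction.compHom Spor.Fi22 (MulAut.conj.comp P.subtype)
  have hsm : ∀ (p : P) (x : Spor.Fi22), p • x = p * x * (p : Spor.Fi22)⁻¹ := fun _ _ => rfl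
  have h1 : MulAction.stabilizer P a = (centralizer ({a} : Set Spor.Fi22)).subgroupOf P := by
    ext p
    rw [MulAction.mem_stabilizer_iff, hsm, mem_subgroupOf, mem_centralizer_singleton_iff]
    exact mul_inv_eq_iff_eq_mul
  have h2 := MulAction.index_stabilizer P a
  have h3 : (MulAction.orbit P a).ncard ≤ 6 := by
    refine le_trans ?_ hS
    rw [← Set.ncard_coe_finset]
    refine Set.ncard_le_ncard ?_ (Finset.finite_toSet S)
    rintro _ ⟨p, rfl⟩
    exact h p p.2
  rw [← h2, h1] at h3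
  have h4 := ((centralizer ({a} : Set Spor.Fi22)).subgroupOf P).card_mul_index
  rw [hP] at h4
  have h5 : Nat.card ((centralizer ({a} : Set Spor.Fi22)).subgroupOf P) ∣ 729 := by
    have h6 : Nat.card ((centralizer ({a} : Set Spor.Fi22)).subgroupOf P) ∣ 3 ^ 9 := ⟨_, h4.symm⟩
    have h7 : Nat.card ((centralizer ({a} : Set Spor.Fi22)).subgroupOf P) ∣ 18393661440 := by
      rw [← card_cent ha]
      have h8 : Nat.card ((centralizer ({a} : Set Spor.Fi22)).subgroupOf P) =
          Nat.card ↥((centralizer ({a} : Set Spor.Fi22)) ⊓ P) := by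
        rw [← Subgroup.subgroupOf_map_subtype]
        exact (Nat.card_congr (Subgroup.equivMapOfInjective _ _ P.subtype_injective).toEquiv)
      rw [h8]
      exact card_dvd_of_le inf_le_left
    have := Nat.dvd_gcd h6 h7
    norm_num at this
    exact this
  have h6 := Nat.le_of_dvd (by norm_num) h5
  have h7 := Nat.mul_le_mul h6 h3
  rw [h4] at h7
  norm_num at h7

/-- no involution commutes with a Sylow 3-subgroup -/
theorem no_inv {P : Subgroup Spor.Fi22} (hP : Nat.card P = 3 ^ 9) {t : Spor.Fi22} (tt : t * t = 1) (t1 : t ≠ 1)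
    (h : ∀ p ∈ P, p * t = t * p) : False := by
  classical
  rcases inv_cases tt t1 with ht | ⟨a, ha, b, hb, hab, cab, rfl⟩ | ⟨a, b, c, ht, rfl⟩
  · refine no_orb hP ht {t} (by simp) fun p hp => ?_
    rw [h p hp, mul_inv_cancel_right]
    exact Finset.mem_singleton_self t
  · have C := LThreeFi22.Inst.ctx (MulEquiv.refl Spor.Fi22)
    have hm : ∀ x : Spor.Fi22, x ∈ T → x ∈ KFacts.FiTT.TK (MulEquiv.refl Spor.Fi22) := fun x hx =>
      (LThreeFi22.Inst.mem_TK _).2 hx
    refine no_orb hP ha {a, b} ((Finset.card_le_two).trans (by norm_num)) fun p hp => ?_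
    rcases C.cz a (hm a ha) b (hm b hb) hab cab p (h p hp) with h1 | h1
    · rw [h1.1, mul_inv_cancel_right]
      exact Finset.mem_insert_self _ _
    · rw [h1.1]
      exact Finset.mem_insert_of_mem (Finset.mem_singleton_self _)
  · obtain ⟨a', b', c', H⟩ := bas.tf.hex a b c ht
    refine no_orb hP ht.mx {a, b, c, a', b', c'} Finset.card_le_six fun p hp => ?_
    by_contra hcon
    simp only [Finset.mem_insert, Finset.mem_singleton, not_or] at hcon
    obtain ⟨h1, h2, h3, h4, h5, h6⟩ := hcon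
    have hx : p * a * p⁻¹ ∈ T := bas.tf.conj p a ht.mx
    have hpw := h p hp
    have hpw' : p⁻¹ * (a * b * c) = a * b * c * p⁻¹ := by
      rw [inv_mul_eq_iff_eq_mul, ← mul_assoc, hpw, mul_inv_cancel_right]
    have aw : a * (a * b * c) = a * b * c * a := comm_w bas ht rfl ht.cxy ht.cxw
    have xw : p * a * p⁻¹ * (a * b * c) = a * b * c * (p * a * p⁻¹) := by
      calc p * a * p⁻¹ * (a * b * c) = p * a * (p⁻¹ * (a * b * c)) := by group
        _ = p * (a * (a * b * c)) * p⁻¹ := by rw [hpw']; group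
        _ = (p * (a * b * c)) * a * p⁻¹ := by rw [aw]; group
        _ = a * b * c * (p * a * p⁻¹) := by rw [hpw]; group
    obtain ⟨na, nb, nc⟩ := comm_tri bas ht hx xw
    obtain ⟨t, htT, ta, tb, tc, hne⟩ := exists_ncomm bas H hx na nb nc h1 h2 h3 h4 h5 h6
    apply hne
    have tw : t * (a * b * c) = a * b * c * t := comm_w bas ht ta tb tc
    have k1 : p⁻¹ * t * p ∈ T := by
      have := bas.tf.conj p⁻¹ t htT
      rwa [inv_inv] at this
    have k2 : p⁻¹ * t * p * (a * b * c) = a * b * c * (p⁻¹ * t * p) := by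
      calc p⁻¹ * t * p * (a * b * c) = p⁻¹ * t * (p * (a * b * c)) := by group
        _ = p⁻¹ * (t * (a * b * c)) * p := by rw [hpw]; group
        _ = (p⁻¹ * (a * b * c)) * t * p := by rw [tw]; group
        _ = a * b * c * (p⁻¹ * t * p) := by rw [hpw']; group
    have k3 := (comm_tri bas ht k1 k2).1
    calc t * (p * a * p⁻¹) = p * ((p⁻¹ * t * p) * a) * p⁻¹ := by group
      _ = p * (a * (p⁻¹ * t * p)) * p⁻¹ := by rw [k3]
      _ = p * a * p⁻¹ * t := by group

/-- **The centralizer of a Sylow 3-subgroup of `Fi22` is a 3-group.** -/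
theorem cent {P : Subgroup Spor.Fi22} (hP : Nat.card P = 3 ^ 9) : IsPGroup 3 (centralizer (P : Set Spor.Fi22)) := by
  have := Cfsg.Agent.R01.Fi22Facts.finite
  have C := LThreeFi22.Inst.ctx (MulEquiv.refl Spor.Fi22)
  have h3 : Fact (Nat.Prime 3) := ⟨Nat.prime_three⟩
  refine IsPGroup.of_card (n := (Nat.card (centralizer (P : Set Spor.Fi22))).primeFactorsList.length) ?_
  refine Nat.eq_prime_pow_of_unique_prime_dvd Nat.card_pos.ne' fun {r} hr hd => ?_
  by_contra hr3
  have hrF : Fact r.Prime := ⟨hr⟩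
  obtain ⟨y, hy⟩ := exists_prime_orderOf_dvd_card' r hd
  have hy' : orderOf (y : Spor.Fi22) = r := by rw [← hy]; exact Subgroup.orderOf_coe y
  have hyr : (y : Spor.Fi22) ^ r = 1 := by rw [← hy', pow_orderOf_eq_one]
  have hy1 : (y : Spor.Fi22) ≠ 1 := by
    intro h
    rw [h, orderOf_one] at hy'
    exact hr.one_lt.ne hy'
  have hc : ∀ p ∈ P, p * (y : Spor.Fi22) = y * p := fun p hp => (mem_centralizer_iff.1 y.2 p hp)
  have hle : P ≤ centralizer ({(y : Spor.Fi22)} : Set Spor.Fi22) := fun p hp =>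
    mem_centralizer_singleton_iff.2 (hc p hp)
  have h9 : 9 ∣ Nat.card (centralizer ({(y : Spor.Fi22)} : Set Spor.Fi22)) := by
    refine dvd_trans ?_ (card_dvd_of_le hle)
    rw [hP]
    norm_num
  obtain ⟨x, hx⟩ := exists_prime_orderOf_dvd_card' (G := P) 3 (by rw [hP]; norm_num)
  have hx3 : (x : Spor.Fi22) ^ 3 = 1 := by
    rw [← hx, ← Subgroup.orderOf_coe, pow_orderOf_eq_one]
  have hx1 : (x : Spor.Fi22) ≠ 1 := by
    intro h
    have h1 := Subgroup.orderOf_coe x
    rw [h, orderOf_one, hx] at h1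
    norm_num at h1
  have hrG : r ∣ 64561751654400 := by
    rw [← card_eq]
    exact hd.trans (Subgroup.card_subgroup_dvd_card _)
  rcases lt_or_ge r 5 with h5 | h5
  · have : r = 2 := by
      have := hr.two_le
      interval_cases r
      · rfl
      · exact absurd rfl hr3
      · revert hr; norm_num
    subst this
    exact no_inv hP (by rw [← pow_two]; exact hyr) hy1 hc
  · rcases PreUniqCo.FiTwentyTwo.primes hr h5 hrG with rfl | rfl | rfl | rfl
    · exact C.nine_five hyr hy1 h9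
    · exact C.nine_seven hyr hy1 h9
    · exact hx1 (C.eleven hyr hy1 hx3 (hc x x.2))
    · apply hx1
      have h13 := PreUniqCo.FiTwentyTwo.thirteen (MulEquiv.refl Spor.Fi22) hy' (hc x x.2)
      calc (x : Spor.Fi22) = (x : Spor.Fi22) ^ 13 * (((x : Spor.Fi22) ^ 3) ^ 4)⁻¹ := by group
        _ = 1 := by rw [h13, hx3, one_pow, inv_one, one_mul]

/-- **`RowQ 3` for `Fi22`.** -/
theorem rowQ_three {S : Type*} [Group S] (h : Spor.IsoFi22 S) : RowQ 3 S := by
  obtain ⟨e⟩ := h
  have := Cfsg.Agent.R01.Fi22Facts.finite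
  have h3 : Fact (Nat.Prime 3) := ⟨Nat.prime_three⟩
  refine RowQ.of_equiv e.symm ?_
  obtain ⟨χ, hd, hr⟩ := H714.Fi22.Deg.deg_1001
  obtain ⟨P⟩ : Nonempty (Sylow 3 Spor.Fi22) := inferInstance
  have hP : Nat.card (P : Subgroup Spor.Fi22) = 3 ^ 9 := by
    rw [P.card_eq_multiplicity, card_eq]
    have e1 : (64561751654400 : ℕ) = 3 ^ 9 * 3280076800 := by norm_num
    rw [e1, Nat.factorization_mul (by norm_num) (by norm_num), Finsupp.add_apply,
      Nat.Prime.factorization_pow Nat.prime_three, Finsupp.single_eq_same,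
      Nat.factorization_eq_zero_of_not_dvd (by norm_num)]
  refine RowQ.of_full_real Nat.prime_three (U := (P : Subgroup Spor.Fi22)) P.2 (cent hP) hd (fun g => ?_)
    (by norm_num) (by norm_num) (by norm_num)
  exact Complex.conj_eq_iff_im.1 (hr starRingAut g)

end Cfsg.Agent.H210.SB.Fi22
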